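import Mathlib
import Cfsg.Prelude.Def_OddOrderLocal
import Cfsg.Agent.Lib.Helper1.RankTwoLin
import Cfsg.Agent.Lib.Helper35.BG.FrobQ

/-!
# Generic lemmas for S1430 (clause (3c)): lines of a rank two elementary abelian group

* `inf_centralizer_ne_bot_of_isPGroup`: a `p`-group normalizing a nontrivial `p`-group has
  nontrivial fixed points on it.
* `exists_eigen_line`: a `p'`-element `y` normalizing `A ≅ p²` abelian of exponent `p` with
  `C_A(y) = X` of order `p` has exactly one further invariant line `A₂`, and `C_{A₂}(y) = 1`.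
* `gl_lemma`: in that situation (odd order, solvable normalizer) `N(A) ≤ N(X)` or `N(A) ≤ N(A₂)`.
-/

set_option autoImplicit false

namespace Cfsg.Agent.Lib.Helper35.BG30

open Subgroup

universe u

variable {G : Type u} [Group G]

/-- The conjugation action of a subgroup `S ≤ N(A)` on `A`. -/
abbrev conjActOn (S A : Subgroup G) (hSA : S ≤ normalizer (A : Set G)) : MulAction ↥S ↥A where
  smul s a := ⟨(s : G) * a * (s : G)⁻¹, (mem_normalizer_iff.mp (hSA s.2) a).mp a.2⟩
  one_smul a := by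
    apply Subtype.ext
    show ((1 : ↥S) : G) * a * ((1 : ↥S) : G)⁻¹ = a
    simp
  mul_smul s t a := by
    apply Subtype.ext
    show ((s * t : ↥S) : G) * a * ((s * t : ↥S) : G)⁻¹ = (s : G) * ((t : G) * a * (t : G)⁻¹) * (s : G)⁻¹
    simp [mul_assoc]

/-- A `p`-group acting by conjugation on a nontrivial `p`-group has a nontrivial fixed point. -/
theorem inf_centralizer_ne_bot_of_isPGroup [Finite G] {p : ℕ} [Fact p.Prime] (S A : Subgroup G)
    (hS : IsPGroup p S) (hA : IsPGroup p A) (hSA : S ≤ normalizer (A : Set G)) (hA1 : A ≠ ⊥) :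
    A ⊓ centralizer (S : Set G) ≠ ⊥ := by
  letI := conjActOn S A hSA
  have hsmul : ∀ (s : ↥S) (a : ↥A), ((s • a : ↥A) : G) = (s : G) * a * (s : G)⁻¹ := fun _ _ => rfl
  have hpA : p ∣ Nat.card ↥A := by
    obtain ⟨n, hn⟩ := IsPGroup.iff_card.mp hA
    rw [hn]
    have : n ≠ 0 := by
      intro h0
      rw [h0, pow_zero] at hn
      exact hA1 (Subgroup.card_eq_one.mp hn)
    exact dvd_pow_self p this
  have h1 : (1 : ↥A) ∈ MulAction.fixedPoints ↥S ↥A := by
    intro s
    apply Subtype.ext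
    rw [hsmul]
    simp
  obtain ⟨b, hb, hb1⟩ := hS.exists_fixed_point_of_prime_dvd_card_of_fixed_point ↥A hpA h1
  intro hbot
  apply hb1
  have hmem : (b : G) ∈ A ⊓ centralizer (S : Set G) := by
    refine Subgroup.mem_inf.mpr ⟨b.2, ?_⟩
    rw [mem_centralizer_iff]
    intro s hs
    have h2 := congrArg Subtype.val (hb ⟨s, hs⟩)
    rw [hsmul] at h2
    have h3 : s * (b : G) * s⁻¹ = b := h2
    calc s * (b : G) = s * (b : G) * s⁻¹ * s := by group
      _ = (b : G) * s := by rw [h3]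
  rw [hbot, Subgroup.mem_bot] at hmem
  exact (Subtype.ext hmem).symm

/-- The second eigenline. -/
theorem exists_eigen_line [Finite G] {p s : ℕ} [Fact p.Prime]
    (A : Subgroup G) (hAc : ∀ a ∈ A, ∀ b ∈ A, a * b = b * a) (hAe : ∀ a ∈ A, a ^ p = 1)
    (hA2 : Nat.card A = p ^ 2) (y : G) (hy : y ∈ normalizer (A : Set G))
    (hys : y ^ s = 1) (hsp : s.Coprime p)
    (X : Subgroup G) (hX : X = A ⊓ centralizer ({y} : Set G)) (hXc : Nat.card X = p) :
    ∃ A2 : Subgroup G, A2 ≤ A ∧ Nat.card A2 = p ∧ y ∈ normalizer (A2 : Set G) ∧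
      A2 ⊓ centralizer ({y} : Set G) = ⊥ ∧
      ∀ L : Subgroup G, L ≤ A → Nat.card L = p → y ∈ normalizer (L : Set G) →
        L = X ∨ L = A2 := by
  have hpp : p.Prime := Fact.out
  have hconj : ∀ a ∈ A, y * a * y⁻¹ ∈ A := fun a ha => (mem_normalizer_iff.mp hy a).mp ha
  have hconj' : ∀ a ∈ A, y⁻¹ * a * y ∈ A := by
    intro a ha
    have h1 := (mem_normalizer_iff.mp hy (y⁻¹ * a * y)).mpr
    apply h1
    have : y * (y⁻¹ * a * y) * y⁻¹ = a := by group
    rw [this]; exact ha
  let θ : ↥A →* ↥A :=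
    { toFun := fun a => ⟨y * a * y⁻¹ * (a : G)⁻¹, A.mul_mem (hconj a a.2) (A.inv_mem a.2)⟩
      map_one' := by
        apply Subtype.ext
        show y * ((1 : ↥A) : G) * y⁻¹ * ((1 : ↥A) : G)⁻¹ = ((1 : ↥A) : G)
        simp
      map_mul' := by
        intro a b
        apply Subtype.ext
        show y * ((a * b : ↥A) : G) * y⁻¹ * ((a * b : ↥A) : G)⁻¹ =
          (y * (a : G) * y⁻¹ * (a : G)⁻¹) * (y * (b : G) * y⁻¹ * (b : G)⁻¹)
        have h1 : (a : G)⁻¹ * (y * b * y⁻¹) = (y * b * y⁻¹) * (a : G)⁻¹ :=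
          hAc _ (A.inv_mem a.2) _ (hconj b b.2)
        have h2 : (b : G)⁻¹ * (a : G)⁻¹ = (a : G)⁻¹ * (b : G)⁻¹ :=
          hAc _ (A.inv_mem b.2) _ (A.inv_mem a.2)
        calc y * ((a * b : ↥A) : G) * y⁻¹ * ((a * b : ↥A) : G)⁻¹
            = (y * a * y⁻¹) * (y * b * y⁻¹) * ((b : G)⁻¹ * (a : G)⁻¹) := by
              rw [Subgroup.coe_mul]; group
          _ = (y * a * y⁻¹) * ((y * b * y⁻¹) * (a : G)⁻¹) * (b : G)⁻¹ := by rw [h2]; group
          _ = (y * a * y⁻¹) * ((a : G)⁻¹ * (y * b * y⁻¹)) * (b : G)⁻¹ := by rw [h1]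
          _ = _ := by group }
  have hθ : ∀ a : ↥A, ((θ a : ↥A) : G) = y * a * y⁻¹ * (a : G)⁻¹ := fun _ => rfl
  have hker : ∀ a : ↥A, θ a = 1 ↔ (a : G) ∈ X := by
    intro a
    rw [hX]
    constructor
    · intro h
      have h1 := congrArg Subtype.val h
      rw [hθ] at h1
      refine Subgroup.mem_inf.mpr ⟨a.2, ?_⟩
      rw [mem_centralizer_iff]
      intro z hz
      rw [Set.mem_singleton_iff] at hz
      subst hz
      have h2 : z * (a : G) * z⁻¹ = a := by
        have h3 : z * (a : G) * z⁻¹ * (a : G)⁻¹ = 1 := h1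
        calc z * (a : G) * z⁻¹ = z * (a : G) * z⁻¹ * (a : G)⁻¹ * a := by group
          _ = a := by rw [h3, one_mul]
      calc z * (a : G) = z * (a : G) * z⁻¹ * z := by group
        _ = (a : G) * z := by rw [h2]
    · intro h
      have h1 := (Subgroup.mem_inf.mp h).2
      rw [mem_centralizer_iff] at h1
      have h2 := h1 y (Set.mem_singleton y)
      apply Subtype.ext
      rw [hθ]
      show y * (a : G) * y⁻¹ * (a : G)⁻¹ = 1
      rw [h2]; group
  have hXA : X ≤ A := by rw [hX]; exact inf_le_left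
  have hkercard : Nat.card θ.ker = p := by
    rw [← hXc]
    have e : θ.ker = X.subgroupOf A := by
      ext a
      rw [MonoidHom.mem_ker, Subgroup.mem_subgroupOf]
      exact hker a
    rw [e]
    exact Nat.card_congr (Subgroup.subgroupOfEquivOfLe hXA).toEquiv
  have hrange : Nat.card θ.range = p := by
    have h1 := Subgroup.card_mul_index θ.ker
    rw [Subgroup.index_ker, hkercard, hA2, pow_two] at h1
    exact Nat.eq_of_mul_eq_mul_left hpp.pos h1
  refine ⟨θ.range.map A.subtype, Subgroup.map_subtype_le _, ?_, ?_, ?_, ?_⟩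
  · rw [Subgroup.card_map_of_injective A.subtype_injective]
    exact hrange
  · have hfin : (Subgroup.zpowers y) ≤ normalizer ((θ.range.map A.subtype : Subgroup G) : Set G) := by
      apply Cfsg.Agent.Lib.Helper35.BG.le_normalizer_of_forall_conj_mem
      intro x hx b hb
      obtain ⟨k, rfl⟩ := Subgroup.mem_zpowers_iff.mp hx
      obtain ⟨b', ⟨a, rfl⟩, rfl⟩ := hb
      have key : ∀ (k : ℤ), y ^ k * (a : G) * (y ^ k)⁻¹ ∈ A := by
        intro k
        have hk : y ^ k ∈ normalizer (A : Set G) := zpow_mem hy k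
        exact (mem_normalizer_iff.mp hk a).mp a.2
      refine ⟨θ ⟨y ^ k * (a : G) * (y ^ k)⁻¹, key k⟩, ⟨⟨_, rfl⟩, ?_⟩⟩
      show y * (y ^ k * (a : G) * (y ^ k)⁻¹) * y⁻¹ * (y ^ k * (a : G) * (y ^ k)⁻¹)⁻¹ =
        y ^ k * (y * (a : G) * y⁻¹ * (a : G)⁻¹) * (y ^ k)⁻¹
      have hc : y * y ^ k = y ^ k * y := by
        rw [← zpow_one_add, ← zpow_add_one, add_comm]
      calc y * (y ^ k * (a : G) * (y ^ k)⁻¹) * y⁻¹ * (y ^ k * (a : G) * (y ^ k)⁻¹)⁻¹
          = (y * y ^ k) * (a : G) * (y * y ^ k)⁻¹ * (y ^ k * (a : G)⁻¹ * (y ^ k)⁻¹) := by group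
        _ = (y ^ k * y) * (a : G) * (y ^ k * y)⁻¹ * (y ^ k * (a : G)⁻¹ * (y ^ k)⁻¹) := by rw [hc]
        _ = _ := by group
    exact hfin (Subgroup.mem_zpowers y)
  · rw [eq_bot_iff]
    rintro b hb
    obtain ⟨hb1, hb2⟩ := Subgroup.mem_inf.mp hb
    obtain ⟨b', ⟨a, rfl⟩, rfl⟩ := hb1
    rw [mem_centralizer_iff] at hb2
    have hcomm := hb2 y (Set.mem_singleton y)
    rw [Subgroup.mem_bot]
    set b : G := y * (a : G) * y⁻¹ * (a : G)⁻¹ with hbdef
    have hbA : b ∈ A := (θ a).2
    have hyb : y * b * y⁻¹ = b := by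
      have : y * b = b * y := hcomm
      rw [this]; group
    have hya : y * (a : G) * y⁻¹ = b * a := by rw [hbdef]; group
    have key : ∀ i : ℕ, y ^ i * (a : G) * (y ^ i)⁻¹ = b ^ i * a := by
      intro i
      induction i with
      | zero => simp
      | succ i ih =>
        have hybi : y * b ^ i * y⁻¹ = b ^ i := by
          have h1 : y * b ^ i * y⁻¹ = (y * b * y⁻¹) ^ i := by
            rw [conj_pow]
          rw [h1, hyb]
        calc y ^ (i + 1) * (a : G) * (y ^ (i + 1))⁻¹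
            = y * (y ^ i * (a : G) * (y ^ i)⁻¹) * y⁻¹ := by rw [pow_succ']; group
          _ = y * (b ^ i * a) * y⁻¹ := by rw [ih]
          _ = (y * b ^ i * y⁻¹) * (y * (a : G) * y⁻¹) := by group
          _ = b ^ i * (b * a) := by rw [hybi, hya]
          _ = b ^ (i + 1) * a := by rw [pow_succ]; group
    have h1 := key s
    rw [hys] at h1
    have h2 : b ^ s = 1 := by
      have : (a : G) = b ^ s * a := by simpa using h1
      calc b ^ s = b ^ s * a * (a : G)⁻¹ := by group
        _ = 1 := by rw [← this]; group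
    have h3 : b ^ p = 1 := hAe b hbA
    have h4 : orderOf b ∣ Nat.gcd s p := Nat.dvd_gcd (orderOf_dvd_of_pow_eq_one h2)
      (orderOf_dvd_of_pow_eq_one h3)
    rw [Nat.Coprime] at hsp
    rw [hsp, Nat.dvd_one, orderOf_eq_one_iff] at h4
    exact h4
  · intro L hLA hLc hyL
    by_cases hLX : L ≤ X
    · left
      exact Subgroup.eq_of_le_of_card_ge hLX (by rw [hLc, hXc])
    · right
      have hLX' : L ⊓ X = ⊥ := by
        have h1 : Nat.card ↥(L ⊓ X) ∣ p := by
          rw [← hLc]; exact Subgroup.card_dvd_of_le inf_le_left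
        rcases (Nat.dvd_prime hpp).mp h1 with h2 | h2
        · exact Subgroup.card_eq_one.mp h2
        · exfalso
          apply hLX
          have : L ⊓ X = L := Subgroup.eq_of_le_of_card_ge inf_le_left (by rw [h2, hLc])
          rw [← this]; exact inf_le_right
      have hLconj : ∀ l ∈ L, y * l * y⁻¹ ∈ L := fun l hl => (mem_normalizer_iff.mp hyL l).mp hl
      let f : ↥L → ↥L := fun l =>
        ⟨y * (l : G) * y⁻¹ * (l : G)⁻¹, L.mul_mem (hLconj l l.2) (L.inv_mem l.2)⟩
      have hf : Function.Injective f := by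
        intro l l' h
        have h1 : y * (l : G) * y⁻¹ * (l : G)⁻¹ = y * (l' : G) * y⁻¹ * (l' : G)⁻¹ :=
          congrArg Subtype.val h
        have h2 : θ ⟨l, hLA l.2⟩ = θ ⟨l', hLA l'.2⟩ := Subtype.ext h1
        have h3 : θ ((⟨l', hLA l'.2⟩ : ↥A)⁻¹ * ⟨l, hLA l.2⟩) = 1 := by
          rw [map_mul, map_inv, h2, inv_mul_cancel]
        have h4 := (hker _).mp h3
        have h5 : (l' : G)⁻¹ * (l : G) ∈ L ⊓ X :=
          Subgroup.mem_inf.mpr ⟨L.mul_mem (L.inv_mem l'.2) l.2, h4⟩
        rw [hLX', Subgroup.mem_bot] at h5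
        apply Subtype.ext
        calc (l : G) = (l' : G) * ((l' : G)⁻¹ * (l : G)) := by group
          _ = l' := by rw [h5, mul_one]
      have hsurj : Function.Surjective f := Finite.injective_iff_surjective.mp hf
      have hLA2 : L ≤ θ.range.map A.subtype := by
        intro l hl
        obtain ⟨l', hl'⟩ := hsurj ⟨l, hl⟩
        refine ⟨θ ⟨l', hLA l'.2⟩, ⟨_, rfl⟩, ?_⟩
        exact congrArg Subtype.val hl'
      apply Subgroup.eq_of_le_of_card_ge hLA2
      rw [Subgroup.card_map_of_injective A.subtype_injective, hrange, hLc]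

/-- **(GL)**: `A` elementary abelian of order `p ^ 2` (`p` odd) with solvable normalizer of odd
order, `y ∈ N(A)` whose only invariant lines are `X = C_A(y)` and `A2`.  Then `N(A)` normalizes `X`
or `N(A)` normalizes `A2`. -/
theorem gl_lemma [Finite G] {p : ℕ} [Fact p.Prime] (hp2 : p ≠ 2)
    (A : Subgroup G) (hA2 : Nat.card A = p ^ 2)
    (hNs : Group.IsSolvable ↥(normalizer (A : Set G)))
    (hNodd : Odd (Nat.card ↥(normalizer (A : Set G))))
    (y : G) (hy : y ∈ normalizer (A : Set G))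
    (X A2 : Subgroup G) (hX : X = A ⊓ centralizer ({y} : Set G))
    (hlines : ∀ L : Subgroup G, L ≤ A → Nat.card L = p → y ∈ normalizer (L : Set G) →
        L = X ∨ L = A2) :
    normalizer (A : Set G) ≤ normalizer (X : Set G) ∨
      normalizer (A : Set G) ≤ normalizer (A2 : Set G) := by
  have hpp : p.Prime := Fact.out
  have hAp : IsPGroup p A := IsPGroup.of_card hA2
  have hAne : A ≠ ⊥ := by
    intro h
    have h1 : Nat.card A = 1 := by rw [h]; exact Subgroup.card_bot
    rw [hA2] at h1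
    have : 1 < p ^ 2 := Nat.one_lt_pow (by norm_num) hpp.one_lt
    omega
  have hrank : Cfsg.PRankLE p 2 ↥A := by
    intro B _ _
    rw [← hA2]
    exact Subgroup.card_le_card_group B
  set N := normalizer (A : Set G) with hN
  -- every element of `N' = ⁅N, N⁆` has a `p`-power centralizing `A`
  have hpow : ∀ x ∈ ⁅N, N⁆, ∃ k : ℕ, x ^ p ^ k ∈ centralizer (A : Set G) := by
    intro x hx
    obtain ⟨φ, hφ⟩ := Cfsg.Agent.Lib.Helper1.exists_linearization hp2 A N hAp hrank le_rfl
    rw [← Subgroup.map_subtype_commutator] at hx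
    obtain ⟨x', hx', rfl⟩ := hx
    obtain ⟨n, hn⟩ := Cfsg.Agent.Lib.Helper1.map_commutator_isPGroup hp2 hNodd φ x' hx'
    obtain ⟨m, hm⟩ := Cfsg.Agent.Lib.Helper1.pow_mem_centralizer_of_ker A N φ hφ (x' ^ p ^ n) hn
    refine ⟨n + m, ?_⟩
    rw [pow_add, pow_mul]
    simpa using hm
  have hN1N : ⁅N, N⁆ ≤ N := Subgroup.commutator_le_self N
  by_cases hcase : ⁅N, N⁆ ≤ centralizer (A : Set G)
  · -- abelian image: `N` normalizes `X = C_A(y)`
    left
    apply Cfsg.Agent.Lib.Helper35.BG.le_normalizer_of_forall_conj_mem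
    intro n hn x hx
    rw [hX] at hx ⊢
    obtain ⟨hxA, hxy⟩ := Subgroup.mem_inf.mp hx
    have hnx : n * x * n⁻¹ ∈ A := (mem_normalizer_iff.mp hn x).mp hxA
    refine Subgroup.mem_inf.mpr ⟨hnx, ?_⟩
    rw [mem_centralizer_iff]
    intro z hz
    rw [Set.mem_singleton_iff] at hz
    subst hz
    rw [mem_centralizer_iff] at hxy
    have hzx : z * x = x * z := hxy z (Set.mem_singleton z)
    -- c := n⁻¹ z n z⁻¹ ∈ N' centralizes A
    have hc : n⁻¹ * z * n⁻¹⁻¹ * z⁻¹ ∈ ⁅N, N⁆ :=
      Subgroup.commutator_mem_commutator (inv_mem hn) hy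
    have hcA := hcase hc
    rw [mem_centralizer_iff] at hcA
    have hcx : x * (n⁻¹ * z * n⁻¹⁻¹ * z⁻¹) = (n⁻¹ * z * n⁻¹⁻¹ * z⁻¹) * x := hcA x hxA
    have hzx' : z * x * z⁻¹ = x := by rw [hzx]; group
    calc z * (n * x * n⁻¹) = n * ((n⁻¹ * z * n⁻¹⁻¹ * z⁻¹) * (z * x * z⁻¹)) * z * n⁻¹ := by group
      _ = n * ((n⁻¹ * z * n⁻¹⁻¹ * z⁻¹) * x) * z * n⁻¹ := by rw [hzx']
      _ = n * (x * (n⁻¹ * z * n⁻¹⁻¹ * z⁻¹)) * z * n⁻¹ := by rw [hcx]
      _ = n * x * n⁻¹ * z := by group
  · -- the fixed line of `N'`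
    obtain ⟨S⟩ : Nonempty (Sylow p ↥⁅N, N⁆) := inferInstance
    have hS'p : IsPGroup p ↥((S : Subgroup ↥⁅N, N⁆).map (⁅N, N⁆).subtype) := S.isPGroup'.map _
    have hS'N : (S : Subgroup ↥⁅N, N⁆).map (⁅N, N⁆).subtype ≤ normalizer (A : Set G) :=
      (Subgroup.map_subtype_le _).trans hN1N
    have hfix := inf_centralizer_ne_bot_of_isPGroup _ A hS'p hAp hS'N hAne
    obtain ⟨a, ha1⟩ := (Subgroup.ne_bot_iff_exists_ne_one).mp hfix
    obtain ⟨haA, haS⟩ := Subgroup.mem_inf.mp a.2
    -- the stabilizer of `a` in `N'` is everything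
    have hnormC : ((centralizer (A : Set G)).subgroupOf ⁅N, N⁆).Normal := by
      constructor
      intro c hc g
      rw [Subgroup.mem_subgroupOf] at hc ⊢
      have hgN : (g : G) ∈ normalizer (A : Set G) := hN1N g.2
      have := Cfsg.Agent.Lib.Helper35.BG.normalizer_le_normalizer_centralizer A hgN
      exact (mem_normalizer_iff.mp this c).mp hc
    have hQ : IsPGroup p (↥⁅N, N⁆ ⧸ (centralizer (A : Set G)).subgroupOf ⁅N, N⁆) := by
      intro q
      induction q using QuotientGroup.induction_on with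
      | H x =>
        obtain ⟨k, hk⟩ := hpow x x.2
        refine ⟨k, ?_⟩
        rw [← QuotientGroup.mk_pow, QuotientGroup.eq_one_iff, Subgroup.mem_subgroupOf]
        simpa using hk
    obtain ⟨m, hm⟩ := IsPGroup.iff_card.mp hQ
    have hidx : ((centralizer (A : Set G)).subgroupOf ⁅N, N⁆).index = p ^ m := by
      rw [Subgroup.index_eq_card]; exact hm
    set T := (centralizer ({(a : G)} : Set G)).subgroupOf ⁅N, N⁆ with hT
    have hST : (S : Subgroup ↥⁅N, N⁆) ≤ T := by
      intro s hs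
      rw [hT, Subgroup.mem_subgroupOf, mem_centralizer_iff]
      intro z hz
      rw [Set.mem_singleton_iff] at hz
      subst hz
      rw [mem_centralizer_iff] at haS
      exact (haS (s : G) ⟨s, hs, rfl⟩).symm
    have hCT : (centralizer (A : Set G)).subgroupOf ⁅N, N⁆ ≤ T := by
      intro c hc
      rw [Subgroup.mem_subgroupOf] at hc
      rw [hT, Subgroup.mem_subgroupOf, mem_centralizer_iff]
      intro z hz
      rw [Set.mem_singleton_iff] at hz
      subst hz
      rw [mem_centralizer_iff] at hc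
      exact hc _ haA
    have hTtop : T = ⊤ := by
      rw [← Subgroup.index_eq_one]
      have h1 : T.index ∣ (S : Subgroup ↥⁅N, N⁆).index := Subgroup.index_dvd_of_le hST
      have h2 : T.index ∣ p ^ m := hidx ▸ Subgroup.index_dvd_of_le hCT
      obtain ⟨i, -, hi⟩ := (Nat.dvd_prime_pow hpp).mp h2
      rcases Nat.eq_zero_or_pos i with h0 | hpos
      · rw [hi, h0, pow_zero]
      · exfalso
        apply S.not_dvd_index
        refine dvd_trans ?_ h1
        rw [hi]
        exact dvd_pow_self p (Nat.pos_iff_ne_zero.mp hpos)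
    have haN1 : (a : G) ∈ centralizer ((⁅N, N⁆ : Subgroup G) : Set G) := by
      rw [mem_centralizer_iff]
      intro x hx
      have h1 : (⟨x, hx⟩ : ↥⁅N, N⁆) ∈ T := by rw [hTtop]; exact Subgroup.mem_top _
      rw [hT, Subgroup.mem_subgroupOf, mem_centralizer_iff] at h1
      exact (h1 _ (Set.mem_singleton _)).symm
    -- F := C_A(N') is a line normalized by N
    set F := A ⊓ centralizer ((⁅N, N⁆ : Subgroup G) : Set G) with hF
    have hFA : F ≤ A := inf_le_left
    have hFne : F ≠ ⊥ := by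
      intro h
      have : (a : G) ∈ F := Subgroup.mem_inf.mpr ⟨haA, haN1⟩
      rw [h, Subgroup.mem_bot] at this
      exact ha1 (Subtype.ext this)
    have hFneA : F ≠ A := by
      intro h
      apply hcase
      intro x hx
      rw [mem_centralizer_iff]
      intro b hb
      have hbF : b ∈ F := h ▸ hb
      have h1 := (Subgroup.mem_inf.mp hbF).2
      rw [mem_centralizer_iff] at h1
      exact (h1 x hx).symm
    have hFc : Nat.card F = p := by
      have h1 : Nat.card F ∣ p ^ 2 := hA2 ▸ Subgroup.card_dvd_of_le hFA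
      obtain ⟨i, hi2, hi⟩ := (Nat.dvd_prime_pow hpp).mp h1
      have hi0 : i ≠ 0 := by
        intro h0
        rw [h0, pow_zero] at hi
        exact hFne (Subgroup.card_eq_one.mp hi)
      have hi2' : i ≠ 2 := by
        intro h2
        rw [h2] at hi
        exact hFneA (Subgroup.eq_of_le_of_card_ge hFA (by rw [hi, hA2]))
      have : i = 1 := by omega
      rw [hi, this, pow_one]
    have hNF : N ≤ normalizer (F : Set G) := by
      apply Cfsg.Agent.Lib.Helper35.BG.le_normalizer_of_forall_conj_mem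
      intro n hn b hb
      obtain ⟨hbA, hbC⟩ := Subgroup.mem_inf.mp hb
      refine Subgroup.mem_inf.mpr ⟨(mem_normalizer_iff.mp hn b).mp hbA, ?_⟩
      rw [mem_centralizer_iff] at hbC ⊢
      intro x hx
      have hx' : n⁻¹ * x * n ∈ ⁅N, N⁆ := by
        have hnorm : (⁅N, N⁆ : Subgroup G) ≤ ⁅N, N⁆ := le_rfl
        have h1 : N ≤ normalizer ((⁅N, N⁆ : Subgroup G) : Set G) := by
          apply Cfsg.Agent.Lib.Helper35.BG.le_normalizer_of_forall_conj_mem
          intro g hg c hc
          have h2 : g * c * g⁻¹ * c⁻¹ ∈ ⁅N, N⁆ :=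
            Subgroup.commutator_mem_commutator hg (hN1N hc)
          have h3 : g * c * g⁻¹ = g * c * g⁻¹ * c⁻¹ * c := by group
          rw [h3]
          exact mul_mem h2 hc
        have h4 := (mem_normalizer_iff.mp (h1 (inv_mem hn)) x).mp hx
        simpa using h4
      have h5 := hbC _ hx'
      calc x * (n * b * n⁻¹) = n * ((n⁻¹ * x * n) * b) * n⁻¹ := by group
        _ = n * (b * (n⁻¹ * x * n)) * n⁻¹ := by rw [h5]
        _ = n * b * n⁻¹ * x := by group
    rcases hlines F hFA hFc (hNF hy) with h | h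
    · left; rw [← h]; exact hNF
    · right; rw [← h]; exact hNF

end Cfsg.Agent.Lib.Helper35.BG30
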