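import Mathlib
import Cfsg.Prelude.Def_OddOrderLocal
import Cfsg.Statements.S1350
import Cfsg.Statements.S1405
import Cfsg.Statements.S1409
import Cfsg.Statements.S1415
import Cfsg.Statements.S1417
import Cfsg.Statements.S1418
import Cfsg.Statements.S1420
import Cfsg.Statements.S1424
import Cfsg.Statements.S1425
import Cfsg.Agent.Lib.Helper35.BG30.GL
import Cfsg.Agent.Lib.Helper35.BG.Basic
import Cfsg.Agent.Lib.Helper35.BG.Hall
import Cfsg.Agent.Lib.Helper76.BG.S1420Core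
import Cfsg.Agent.Lib.Helper27.BG.SigmaBasic
import Cfsg.Agent.Lib.Helper47.BG.SigmaNe
import Cfsg.Agent.Lib.Helper46.BG.S1414Core
import Cfsg.Agent.Lib.Helper67.BG.HallUtil
import Cfsg.Agent.Lib.Helper85.BG.Conj
import Cfsg.Agent.Lib.Helper69.PCount

/-!
# S1430, clause (3c) (`X ≤ M*_σ`): auxiliary lemmas

Route of helper20 (note 2060 (B)): steps (D1), (D2), (D3).
-/

set_option autoImplicit false

namespace Cfsg.Agent.Lib.Helper35.BG30

open Cfsg Subgroup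
open Cfsg.Agent.Lib.Helper35.BG Cfsg.Agent.Lib.Helper46

universe u

variable {G : Type u} [Group G] [Finite G]

/-- A `p`-subgroup of `J` lies in `J_σ` when `p ∈ σ(J)`. -/
theorem le_sigmaCore_of_mem_sigma (hG : IsMinSimpleOddOrder G)
    (h1350 : type_of% (@Cfsg.CfsgFrozen.S1350 G _ _ hG))
    {J : Subgroup G} (hJ : IsCoatom J) {p : ℕ} (hp : p.Prime) (hpJ : p ∈ sigma J)
    {X : Subgroup G} (hXJ : X ≤ J) (hXp : IsPGroup p X) : X ≤ sigmaCore J := by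
  have : Fact p.Prime := ⟨hp⟩
  apply Cfsg.Agent.Lib.Helper27.BG.le_of_coprime_relIndex
    (Cfsg.Agent.Lib.Helper67.BG.sigmaCore_le J)
    (Cfsg.Agent.Lib.Helper67.BG.sigmaCore_normalizer J) hXJ
  obtain ⟨n, hn⟩ := IsPGroup.iff_card.mp hXp
  rw [hn]
  apply Nat.Coprime.pow_left
  exact (Nat.Prime.coprime_iff_not_dvd hp).mpr ((h1350 J hJ).1.2.2 p hp hpJ)

/-- An elementary abelian subgroup of order `p ^ 2` does not lie in a subgroup of `p`-rank 1. -/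
theorem not_le_of_rank_one {p : ℕ} (hp : p.Prime) {M A : Subgroup G} (hrank : PRankLE p 1 M)
    (hA : IsElementaryAbelian p A) (hAc : Nat.card A = p ^ 2) : ¬ A ≤ M := by
  intro hAM
  rw [Cfsg.Agent.Lib.Helper24.pRankLE_subgroup_iff] at hrank
  have h1 := hrank A hAM (Cfsg.Agent.Lib.Helper20.BG.ea_comm hA) hA.2
  rw [hAc, pow_one] at h1
  nlinarith [hp.one_lt]

theorem not_isCyclic_of_ea {p : ℕ} (hp : p.Prime) {B : Subgroup G}
    (hB : IsElementaryAbelian p B) (hcard : Nat.card B = p ^ 2) : ¬ IsCyclic B := by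
  intro hc
  obtain ⟨g, hg⟩ := hc.exists_generator
  have h1 : orderOf g = Nat.card B := orderOf_eq_card_of_forall_mem_zpowers hg
  have h2 : g ^ p = 1 := by
    apply Subtype.ext
    rw [Subgroup.coe_pow]
    exact hB.2 g g.2
  have h3 : orderOf g ∣ p := orderOf_dvd_of_pow_eq_one h2
  rw [h1, hcard] at h3
  have := Nat.le_of_dvd hp.pos h3
  nlinarith [hp.one_lt]

theorem isPGroup_of_ea {p : ℕ} [Fact p.Prime] {B : Subgroup G} (hcard : Nat.card B = p ^ 2) :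
    IsPGroup p B := IsPGroup.of_card hcard

theorem prime_dvd_card_sq {p q : ℕ} (hp : p.Prime) (hq : q.Prime) {B : Subgroup G}
    (hcard : Nat.card B = p ^ 2) (h : q ∣ Nat.card B) : q = p := by
  rw [hcard] at h
  exact (Nat.prime_dvd_prime_iff_eq hq hp).mp (hq.dvd_of_dvd_pow h)

/-- A `σ(J)'`-subgroup of `J` is `J`-conjugate into a given complement of `J_σ`. -/
theorem exists_conj_le_compl' (hG : IsMinSimpleOddOrder G)
    (h1350 : type_of% (@Cfsg.CfsgFrozen.S1350 G _ _ hG))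
    {J : Subgroup G} (hJ : IsCoatom J) {E : Subgroup G} (hE : IsComplIn E (sigmaCore J) J)
    {K : Subgroup G} (hKJ : K ≤ J)
    (hK : ∀ q : ℕ, q.Prime → q ∣ Nat.card K → q ∉ sigma J) :
    ∃ g ∈ J, K.map (MulAut.conj g).toMonoidHom ≤ E := by
  obtain ⟨E', hE', hKE'⟩ :=
    Cfsg.Agent.Lib.Helper76.BG.exists_compl_ge hG J hJ (h1350 J hJ).1 K hKJ hK
  obtain ⟨g, hg, hconj⟩ :=
    Cfsg.Agent.Lib.Helper76.BG.exists_conj_le_compl hG J hJ (h1350 J hJ).1 E' E hE' hE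
  refine ⟨g, hg, ?_⟩
  rintro _ ⟨k, hk, rfl⟩
  exact hconj k (hKE' hk)

/-- An elementary abelian subgroup of order `q ^ 2` inside a complement, for `q ∉ σ(J)` of
rank at least two. -/
theorem exists_ea_sq_le_compl (hG : IsMinSimpleOddOrder G)
    (h1350 : type_of% (@Cfsg.CfsgFrozen.S1350 G _ _ hG))
    {J : Subgroup G} (hJ : IsCoatom J) {E : Subgroup G} (hE : IsComplIn E (sigmaCore J) J)
    {q : ℕ} (hq : q.Prime) (hqJ : q ∉ sigma J) (hr1 : ¬ PRankLE q 1 J) :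
    ∃ B : Subgroup G, B ≤ E ∧ IsElementaryAbelian q B ∧ Nat.card B = q ^ 2 := by
  have : Fact q.Prime := ⟨hq⟩
  obtain ⟨B0, hB0J, hB0ea, hB0c⟩ := Cfsg.Agent.Lib.Helper76.BG.exists_ea_sq_of_not_rank_one J q hr1
  obtain ⟨g, -, hg⟩ := exists_conj_le_compl' hG h1350 hJ hE hB0J
    (fun r hr hdvd => by rw [prime_dvd_card_sq hq hr hB0c hdvd]; exact hqJ)
  exact ⟨B0.map (MulAut.conj g).toMonoidHom, hg, Cfsg.Agent.Lib.Helper76.BG.ea_map_conj hB0ea g,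
    by rw [card_map_conj, hB0c]⟩

/-- **(D1)**: a prime `s ∈ σ(M)` is not in `τ₂(J)` when `J` has a complement `E` of `J_σ`
containing an elementary abelian `p²` and `M` has `p`-rank 1. -/
theorem d1 (hG : IsMinSimpleOddOrder G)
    (h1350 : type_of% (@Cfsg.CfsgFrozen.S1350 G _ _ hG))
    (h1418 : type_of% (@Cfsg.CfsgFrozen.S1418 G _ _ hG))
    (h1420 : type_of% (@Cfsg.CfsgFrozen.S1420 G _ _ hG))
    (h1425 : type_of% (@Cfsg.CfsgFrozen.S1425 G _ _ hG))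
    {M : Subgroup G} (hM : IsCoatom M) {p : ℕ} (hp : p.Prime) (hrank : PRankLE p 1 M)
    {J : Subgroup G} (hJ : IsCoatom J) {E : Subgroup G} (hE : IsComplIn E (sigmaCore J) J)
    {A : Subgroup G} (hAE : A ≤ E) (hAea : IsElementaryAbelian p A) (hAc : Nat.card A = p ^ 2)
    {s : ℕ} (hs : s.Prime) (hsM : s ∈ sigma M) : s ∉ tau2 J := by
  intro hsτ
  have : Fact s.Prime := ⟨hs⟩
  obtain ⟨B, hBE, hBea, hBc⟩ := exists_ea_sq_le_compl hG h1350 hJ hE hs hsτ.2.1 hsτ.2.2.2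
  obtain ⟨⟨hEB, -⟩, -, -⟩ := h1418 J hJ E hE s hsτ B ⟨hBE, hBea, hBc⟩
  have hB1 : B ≠ ⊥ := by
    intro h
    have h1 : Nat.card B = 1 := by rw [h]; exact Subgroup.card_bot
    rw [hBc] at h1
    have : 1 < s ^ 2 := Nat.one_lt_pow (by norm_num) hs.one_lt
    omega
  obtain ⟨g, hg⟩ := h1425 M hM B hB1
    (fun r hr hdvd => by rw [prime_dvd_card_sq hs hr hBc hdvd]; exact hsM)
  obtain ⟨EM, hEM⟩ := Cfsg.Agent.Lib.Helper67.BG.exists_compl_sigmaCore M (h1350 M hM).1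
  have hBgM : B.map (MulAut.conj g).toMonoidHom ≤ M :=
    hg.trans (Cfsg.Agent.Lib.Helper67.BG.sigmaCore_le M)
  have hBgea := Cfsg.Agent.Lib.Helper76.BG.ea_map_conj hBea g
  have hBgc : Nat.card ↥(B.map (MulAut.conj g).toMonoidHom) = s ^ 2 := by
    rw [card_map_conj, hBc]
  have hN := (h1420 M hM EM hEM).2.2.1 s (B.map (MulAut.conj g).toMonoidHom) hsM
    (isPGroup_of_ea hBgc) hBgM (not_isCyclic_of_ea hs hBgea hBgc)
  rw [normalizer_map_conj] at hN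
  have hAg : A.map (MulAut.conj g).toMonoidHom ≤ M := by
    refine le_trans ?_ hN
    exact Subgroup.map_mono (hAE.trans hEB)
  exact not_le_of_rank_one hp hrank (Cfsg.Agent.Lib.Helper76.BG.ea_map_conj hAea g)
    (by rw [card_map_conj, hAc]) hAg

/-- A `p`-subgroup of `H` of index prime to `p` is a Sylow `p`-subgroup of `H`. -/
theorem isSylowIn_of_not_dvd_relIndex {s : ℕ} (hs : s.Prime) {S H : Subgroup G} (hSH : S ≤ H)
    (hS : IsPGroup s S) (hidx : ¬ s ∣ S.relIndex H) : IsSylowIn s S H := by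
  have : Fact s.Prime := ⟨hs⟩
  refine ⟨hSH, ?_⟩
  obtain ⟨k, hk⟩ := IsPGroup.iff_card.mp hS
  have h1 : Nat.card S * S.relIndex H = Nat.card H := card_mul_relIndex' hSH
  have hr0 : S.relIndex H ≠ 0 := by
    intro h0
    rw [h0, mul_zero] at h1
    exact Nat.card_pos.ne' h1.symm
  rw [← h1, hk, Nat.factorization_mul (pow_ne_zero _ hs.ne_zero) hr0,
    Nat.Prime.factorization_pow hs, Finsupp.add_apply, Finsupp.single_eq_same,
    Nat.factorization_eq_zero_of_not_dvd hidx, add_zero]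

/-- **(D2)**: `A` does not normalize a subgroup `Y ≤ M_σ`-type of prime order `s ∈ σ(M)`. -/
theorem d2 (hG : IsMinSimpleOddOrder G)
    (h1350 : type_of% (@Cfsg.CfsgFrozen.S1350 G _ _ hG))
    (h1409 : type_of% (@Cfsg.CfsgFrozen.S1409 G _ _ hG))
    (h1417 : type_of% (@Cfsg.CfsgFrozen.S1417 G _ _ hG))
    (h1418 : type_of% (@Cfsg.CfsgFrozen.S1418 G _ _ hG))
    (h1420 : type_of% (@Cfsg.CfsgFrozen.S1420 G _ _ hG))
    (h1424 : type_of% (@Cfsg.CfsgFrozen.S1424 G _ _ hG))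
    (hSigma : ∀ M N : Subgroup G, IsCoatom M → IsCoatom N → (sigma M ∩ sigma N).Nonempty →
      ∃ g : G, N = M.map (MulAut.conj g).toMonoidHom)
    {M : Subgroup G} (hM : IsCoatom M) {p : ℕ} (hp : p.Prime) (hrank : PRankLE p 1 M)
    {X : Subgroup G} (hXM : X ≤ M) (hX : Nat.card X = p)
    {A : Subgroup G} (hAea : IsElementaryAbelian p A) (hAc : Nat.card A = p ^ 2) (hXA : X ≤ A)
    {s : ℕ} (hs : s.Prime) (hsM : s ∈ sigma M)
    {Y : Subgroup G} (hYM : Y ≤ M) (hYc : Nat.card Y = s) :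
    ¬ A ≤ normalizer (Y : Set G) := by
  intro hAY
  have : Fact s.Prime := ⟨hs⟩
  have : Fact p.Prime := ⟨hp⟩
  have hAM : ¬ A ≤ M := not_le_of_rank_one hp hrank hAea hAc
  have hYp : IsPGroup s Y := IsPGroup.of_card (n := 1) (by rw [hYc, pow_one])
  have hY1 : Y ≠ ⊥ := by
    intro h
    rw [h, Subgroup.card_bot] at hYc
    exact hs.one_lt.ne hYc
  have hYtop : Y ≠ ⊤ := fun h => hM.1 (top_le_iff.mp (h ▸ hYM))
  obtain ⟨M2, hM2, hNM2⟩ := exists_coatom_ge (normalizer_ne_top hG hY1 hYtop)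
  have hAM2 : A ≤ M2 := hAY.trans hNM2
  have hne : M2 ≠ M := fun h => hAM (h ▸ hAM2)
  have hYM2 : Y ≤ M2 := Subgroup.le_normalizer.trans hNM2
  have hYMM2 : Y ≤ M ⊓ M2 := le_inf hYM hYM2
  obtain ⟨S, hS⟩ := (hYp.comap_of_injective (M ⊓ M2).subtype
    (M ⊓ M2).subtype_injective).exists_le_sylow
  have hYS : Y ≤ (S : Subgroup ↥(M ⊓ M2)).map (M ⊓ M2).subtype := by
    intro y hy
    exact ⟨⟨y, hYMM2 hy⟩, hS (Subgroup.mem_comap.mpr hy), rfl⟩
  obtain ⟨hnc2, -, hidx⟩ := h1424 M hM s hsM Y hYp hY1 hYM M2 hM2 hne hNM2 S hYS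
  have hS'le : (S : Subgroup ↥(M ⊓ M2)).map (M ⊓ M2).subtype ≤ M ⊓ M2 :=
    Subgroup.map_subtype_le _
  have hS'p : IsPGroup s ↥((S : Subgroup ↥(M ⊓ M2)).map (M ⊓ M2).subtype) := S.isPGroup'.map _
  have hsM2 : s ∉ sigma M2 := by
    intro h
    obtain ⟨g, hg⟩ := hSigma M M2 hM hM2 ⟨s, hsM, h⟩
    exact hnc2 g hg
  obtain ⟨⟨hr2, hr1⟩, -, -⟩ := h1409 M2 hM2 s hsM2 Y hYc hNM2
  have hτ : s ∈ tau2 M2 := ⟨hs, hsM2, hr2, hr1⟩
  obtain ⟨B0, hB0M2, hB0ea, hB0c⟩ :=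
    Cfsg.Agent.Lib.Helper76.BG.exists_ea_sq_of_not_rank_one M2 s hr1
  have hS'syl := isSylowIn_of_not_dvd_relIndex hs (hS'le.trans inf_le_right) hS'p hidx
  obtain ⟨R, hR, hB0R⟩ := exists_isSylowIn_ge (isPGroup_of_ea hB0c) hB0M2
  obtain ⟨g, -, hg⟩ := hR.exists_conj hS'syl
  have hBS' : B0.map (MulAut.conj g).toMonoidHom ≤
      (S : Subgroup ↥(M ⊓ M2)).map (M ⊓ M2).subtype := by
    rw [hg]; exact Subgroup.map_mono hB0R
  have hBea := Cfsg.Agent.Lib.Helper76.BG.ea_map_conj hB0ea g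
  have hBc : Nat.card ↥(B0.map (MulAut.conj g).toMonoidHom) = s ^ 2 := by
    rw [card_map_conj, hB0c]
  have hBM : B0.map (MulAut.conj g).toMonoidHom ≤ M := hBS'.trans (hS'le.trans inf_le_left)
  have hBM2 : B0.map (MulAut.conj g).toMonoidHom ≤ M2 := hBS'.trans (hS'le.trans inf_le_right)
  obtain ⟨-, -, -, -, hMe, -⟩ := h1417 M2 hM2 s hτ _ ⟨hBM2, hBea, hBc⟩
  have hσM : sigmaCore M2 ⊓ M = ⊥ := hMe M hM (Ne.symm hne) hBM
  obtain ⟨EM, hEM⟩ := Cfsg.Agent.Lib.Helper67.BG.exists_compl_sigmaCore M (h1350 M hM).1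
  have hNB := (h1420 M hM EM hEM).2.2.1 s _ hsM (isPGroup_of_ea hBc) hBM
    (not_isCyclic_of_ea hs hBea hBc)
  obtain ⟨E2, hE2, hBE2⟩ := Cfsg.Agent.Lib.Helper76.BG.exists_compl_ge hG M2 hM2
    (h1350 M2 hM2).1 _ hBM2
    (fun r hr hdvd => by rw [prime_dvd_card_sq hs hr hBc hdvd]; exact hsM2)
  obtain ⟨-, ⟨-, hE2eq, -⟩, -⟩ := h1418 M2 hM2 E2 hE2 s hτ _ ⟨hBE2, hBea, hBc⟩
  have hE2M : E2 ≤ M := by rw [← hE2eq]; exact inf_le_right.trans hNB
  have hXM2 : X ≤ M2 := hXA.trans hAM2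
  have hpM2 : p ∉ sigma M2 := by
    intro h
    have hXp : IsPGroup p X := IsPGroup.of_card (n := 1) (by rw [hX, pow_one])
    have h1 := le_sigmaCore_of_mem_sigma hG h1350 hM2 hp h hXM2 hXp
    have h2 : X ≤ sigmaCore M2 ⊓ M := le_inf h1 hXM
    rw [hσM, le_bot_iff] at h2
    rw [h2, Subgroup.card_bot] at hX
    exact hp.one_lt.ne hX
  obtain ⟨m, -, hm⟩ := exists_conj_le_compl' hG h1350 hM2 hE2 hAM2
    (fun r hr hdvd => by rw [prime_dvd_card_sq hp hr hAc hdvd]; exact hpM2)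
  exact not_le_of_rank_one hp hrank (Cfsg.Agent.Lib.Helper76.BG.ea_map_conj hAea m)
    (by rw [card_map_conj, hAc]) (hm.trans hE2M)

/-- **(D3)**: a prime `s ∉ σ(J) ∪ τ₂(J)` with a subgroup of order `s` of a complement `E` that is
not normal in `E` lies in `τ₁(J)`. -/
theorem d3 (hG : IsMinSimpleOddOrder G)
    (h1405 : type_of% (@Cfsg.CfsgFrozen.S1405 G _ _ hG))
    (h1415 : type_of% (@Cfsg.CfsgFrozen.S1415 G _ _ hG))
    {J : Subgroup G} (hJ : IsCoatom J) {E : Subgroup G} (hE : IsComplIn E (sigmaCore J) J)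
    {s : ℕ} (hs : s.Prime) (hsJ : s ∉ sigma J) (hsτ2 : s ∉ tau2 J)
    {Y : Subgroup G} (hYE : Y ≤ E) (hYc : Nat.card Y = s)
    (hEY : ¬ E ≤ normalizer (Y : Set G)) : s ∈ tau1 J := by
  have hr2 : PRankLE s 2 J := by
    by_contra h
    exact hsJ (Cfsg.Agent.Lib.Helper46.BG.mem_sigma_of_mem_alpha hG h1405 hJ ⟨hs, h⟩)
  have hr1 : PRankLE s 1 J := by
    by_contra h
    exact hsτ2 ⟨hs, hsJ, hr2, h⟩
  have hdvdJ : s ∣ Nat.card J := by
    rw [← hYc]; exact Subgroup.card_dvd_of_le (hYE.trans hE.1)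
  by_contra hτ1
  have hdvd : s ∣ Nat.card ↥⁅J, J⁆ := by
    by_contra h
    exact hτ1 ⟨hs, hsJ, hdvdJ, h, hr1⟩
  have hτ3 : s ∈ tau3 J := ⟨hs, hsJ, hdvd, hr1⟩
  have hEtop : E ≠ ⊤ := fun h => hJ.1 (top_le_iff.mp (h ▸ hE.1))
  have hEsolv : Group.IsSolvable E := isSolvable_of_ne_top hG hEtop
  obtain ⟨E3, hE3, hYE3⟩ := Cfsg.Agent.Lib.Helper67.BG.exists_piHallOf_ge (tau3 J) E hEsolv Y hYE
    (fun r hr hdvd => by
      rw [hYc] at hdvd
      rw [(Nat.prime_dvd_prime_iff_eq hr hs).mp hdvd]; exact hτ3)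
  obtain ⟨hcyc, -, hEE3⟩ := (h1415 J hJ E hE).2.2 E3 hE3
  apply hEY
  apply le_normalizer_of_forall_conj_mem
  intro e he y hy
  have hYe : Y.map (MulAut.conj e).toMonoidHom ≤ E3 := by
    rintro _ ⟨z, hz, rfl⟩
    exact (mem_normalizer_iff.mp (hEE3 he) z).mp (hYE3 hz)
  have heq : (Y.map (MulAut.conj e).toMonoidHom).subgroupOf E3 = Y.subgroupOf E3 := by
    apply Cfsg.Agent.Lib.Helper69.eq_of_card_eq_of_isCyclic
    rw [Nat.card_congr (Subgroup.subgroupOfEquivOfLe hYe).toEquiv,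
      Nat.card_congr (Subgroup.subgroupOfEquivOfLe hYE3).toEquiv, card_map_conj]
  have h1 : e * y * e⁻¹ ∈ Y.map (MulAut.conj e).toMonoidHom := ⟨y, hy, rfl⟩
  have h2 : (⟨e * y * e⁻¹, hYe h1⟩ : ↥E3) ∈ (Y.map (MulAut.conj e).toMonoidHom).subgroupOf E3 :=
    Subgroup.mem_subgroupOf.mpr h1
  rw [heq] at h2
  exact Subgroup.mem_subgroupOf.mp h2

end Cfsg.Agent.Lib.Helper35.BG30
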