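import Mathlib
import Cfsg.Agent.Lib.Helper35.BG30.OpenDAux
import Cfsg.Agent.Lib.Helper97.FrobFormula

/-!
# S1430, clause (3c): `X ≤ M*_σ` (helper35)

`M` a maximal subgroup, `p ∉ σ(M)` with `M` of `p`-rank 1, `X ≤ M` of order `p` with
`C_{M_σ}(X) ≠ 1`, and `J` a maximal subgroup containing `N_G(X)`.  Then `X ≤ J_σ`.

Hypotheses besides frozen statements: the σ-partition (second clause of S1378) and
B&G Lemma 13.12 (`hTau12`).  Proof: helper20's note 2060 (B), steps (D1)–(D4).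
-/

set_option autoImplicit false

namespace Cfsg.Agent.Lib.Helper35.BG30

open Cfsg Subgroup
open Cfsg.Agent.Lib.Helper35.BG Cfsg.Agent.Lib.Helper46

universe u

variable {G : Type u} [Group G] [Finite G]

theorem s1430_3c (hG : IsMinSimpleOddOrder G)
    (h1350 : type_of% (@Cfsg.CfsgFrozen.S1350 G _ _ hG))
    (h1405 : type_of% (@Cfsg.CfsgFrozen.S1405 G _ _ hG))
    (h1409 : type_of% (@Cfsg.CfsgFrozen.S1409 G _ _ hG))
    (h1415 : type_of% (@Cfsg.CfsgFrozen.S1415 G _ _ hG))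
    (h1417 : type_of% (@Cfsg.CfsgFrozen.S1417 G _ _ hG))
    (h1418 : type_of% (@Cfsg.CfsgFrozen.S1418 G _ _ hG))
    (h1420 : type_of% (@Cfsg.CfsgFrozen.S1420 G _ _ hG))
    (h1424 : type_of% (@Cfsg.CfsgFrozen.S1424 G _ _ hG))
    (h1425 : type_of% (@Cfsg.CfsgFrozen.S1425 G _ _ hG))
    (hSigma : ∀ M N : Subgroup G, IsCoatom M → IsCoatom N → (sigma M ∩ sigma N).Nonempty →
      ∃ g : G, N = M.map (MulAut.conj g).toMonoidHom)
    (hTau12 : ∀ (M : Subgroup G), IsCoatom M → ∀ E : Subgroup G, IsComplIn E (sigmaCore M) M →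
      ∀ (q : ℕ) [Fact q.Prime], q ∈ tau2 M → ∀ A : Subgroup G,
      (A ≤ E ∧ IsElementaryAbelian q A ∧ Nat.card A = q ^ 2) → ∀ p : ℕ, p ∈ tau1 M →
      ∀ P : Subgroup G, P ≤ E → Nat.card P = p → A ⊓ centralizer (P : Set G) ≠ ⊥ →
      sigmaCore M ⊓ centralizer (P : Set G) = ⊥)
    (M : Subgroup G) (hM : IsCoatom M) (p : ℕ) [Fact p.Prime] (hpσ : p ∉ sigma M)
    (hrank : PRankLE p 1 M) (X : Subgroup G) (hXM : X ≤ M) (hX : Nat.card X = p)
    (hD : sigmaCore M ⊓ centralizer (X : Set G) ≠ ⊥)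
    (J : Subgroup G) (hJ : IsCoatom J) (hNX : normalizer (X : Set G) ≤ J) :
    X ≤ sigmaCore J := by
  have hpp : p.Prime := Fact.out
  have hXp : IsPGroup p X := IsPGroup.of_card (n := 1) (by rw [hX, pow_one])
  have hXJ : X ≤ J := Subgroup.le_normalizer.trans hNX
  by_cases hpJ : p ∈ sigma J
  · exact le_sigmaCore_of_mem_sigma hG h1350 hJ hpp hpJ hXJ hXp
  exfalso
  obtain ⟨⟨hr2, hr1⟩, -, -⟩ := h1409 J hJ p hpJ X hX hNX
  have hτ2 : p ∈ tau2 J := ⟨hpp, hpJ, hr2, hr1⟩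
  have hnc : ∀ g : G, J ≠ M.map (MulAut.conj g).toMonoidHom := by
    intro g h
    apply hr1
    rw [h]
    exact Cfsg.Agent.Lib.Helper85.BG.pRankLE_map_conj hrank g
  have hdisj : ∀ q, q ∈ sigma M → q ∉ sigma J := by
    intro q hqM hqJ
    obtain ⟨g, hg⟩ := hSigma M J hM hJ ⟨q, hqM, hqJ⟩
    exact hnc g hg
  have hX1 : X ≠ ⊥ := by
    intro h
    rw [h, Subgroup.card_bot] at hX
    exact hpp.one_lt.ne hX
  -- `D = C_{M_σ}(X)` and a complement `E` of `J_σ` containing `X D`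
  have hDJ : sigmaCore M ⊓ centralizer (X : Set G) ≤ J :=
    (inf_le_right.trans (centralizer_le_normalizer' X)).trans hNX
  have hXnD : X ≤ normalizer ((sigmaCore M ⊓ centralizer (X : Set G) : Subgroup G) : Set G) := by
    apply le_normalizer_of_forall_conj_mem
    intro x hx d hd
    have h1 := (Subgroup.mem_inf.mp hd).2
    rw [mem_centralizer_iff] at h1
    have h2 : x * d = d * x := h1 x hx
    have h3 : x * d * x⁻¹ = d := by rw [h2]; group
    rw [h3]; exact hd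
  have hcard := Cfsg.Agent.Lib.Helper27.BG.card_sup_dvd_mul hXnD
  have hDXσ : ∀ q : ℕ, q.Prime →
      q ∣ Nat.card ↥(X ⊔ (sigmaCore M ⊓ centralizer (X : Set G)) : Subgroup G) →
      q ∉ sigma J := by
    intro q hq hdvd
    rcases (Nat.Prime.dvd_mul hq).mp (hdvd.trans hcard) with h | h
    · rw [hX] at h
      rw [(Nat.prime_dvd_prime_iff_eq hq hpp).mp h]; exact hpJ
    · exact hdisj q (Cfsg.Agent.Lib.Helper67.BG.sigmaCore_isPi M q hq
        (h.trans (Subgroup.card_dvd_of_le inf_le_left)))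
  obtain ⟨E, hE, hXDE⟩ := Cfsg.Agent.Lib.Helper76.BG.exists_compl_ge hG J hJ (h1350 J hJ).1 _
    (sup_le hXJ hDJ) hDXσ
  have hXE : X ≤ E := le_sup_left.trans hXDE
  have hDE : sigmaCore M ⊓ centralizer (X : Set G) ≤ E := le_sup_right.trans hXDE
  obtain ⟨A, hAE, hAea, hAc⟩ := exists_ea_sq_le_compl hG h1350 hJ hE hpp hpJ hr1
  obtain ⟨⟨hEA, hAll⟩, ⟨-, -, hNA⟩, -⟩ := h1418 J hJ E hE p hτ2 A ⟨hAE, hAea, hAc⟩
  have hXA : X ≤ A := hAll X hXE hX
  have hAJ : A ≤ J := hAE.trans hE.1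
  obtain ⟨-, -, -, hCJA, -, -⟩ := h1417 J hJ p hτ2 A ⟨hAJ, hAea, hAc⟩
  -- an element `y` of prime order `s` in `D`
  obtain ⟨s, hs, hsdvd⟩ :
      ∃ s, s.Prime ∧ s ∣ Nat.card ↥(sigmaCore M ⊓ centralizer (X : Set G)) := by
    apply Nat.exists_prime_and_dvd
    intro h1
    exact hD (Subgroup.card_eq_one.mp h1)
  have : Fact s.Prime := ⟨hs⟩
  obtain ⟨y', hy'⟩ :=
    exists_prime_orderOf_dvd_card' (G := ↥(sigmaCore M ⊓ centralizer (X : Set G))) s hsdvd
  obtain ⟨y, hydef⟩ : ∃ y : G, y = (y' : G) := ⟨_, rfl⟩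
  have hyord : orderOf y = s := by rw [hydef, Subgroup.orderOf_coe]; exact hy'
  have hyD : y ∈ sigmaCore M ⊓ centralizer (X : Set G) := hydef ▸ y'.2
  have hyσ : y ∈ sigmaCore M := (Subgroup.mem_inf.mp hyD).1
  have hyC : y ∈ centralizer (X : Set G) := (Subgroup.mem_inf.mp hyD).2
  have hyX : ∀ x ∈ X, x * y = y * x := fun x hx => (mem_centralizer_iff.mp hyC) x hx
  have hYc : Nat.card ↥(zpowers y) = s := by rw [Nat.card_zpowers, hyord]
  have hsM : s ∈ sigma M := Cfsg.Agent.Lib.Helper67.BG.sigmaCore_isPi M s hs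
    (hsdvd.trans (Subgroup.card_dvd_of_le inf_le_left))
  have hsJ : s ∉ sigma J := hdisj s hsM
  have hYE : zpowers y ≤ E := (zpowers_le).mpr (hDE hyD)
  have hYM : zpowers y ≤ M :=
    (zpowers_le).mpr (Cfsg.Agent.Lib.Helper67.BG.sigmaCore_le M hyσ)
  have hsτ2 : s ∉ tau2 J :=
    d1 hG h1350 h1418 h1420 h1425 hM hpp hrank hJ hE hAE hAea hAc hs hsM
  have hAY : ¬ A ≤ normalizer ((zpowers y : Subgroup G) : Set G) :=
    d2 hG h1350 h1409 h1417 h1418 h1420 h1424 hSigma hM hpp hrank hXM hX hAea hAc hXA hs hsM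
      hYM hYc
  have hsτ1 : s ∈ tau1 J :=
    d3 hG h1405 h1415 hJ hE hs hsJ hsτ2 hYE hYc (fun h => hAY (hAE.trans h))
  -- the action of `y` on `A`
  have hyNA : y ∈ normalizer (A : Set G) := hEA (hYE (mem_zpowers y))
  have hAcomm := Cfsg.Agent.Lib.Helper20.BG.ea_comm hAea
  have hXle : X ≤ A ⊓ centralizer ({y} : Set G) := by
    intro x hx
    refine Subgroup.mem_inf.mpr ⟨hXA hx, ?_⟩
    rw [mem_centralizer_iff]
    intro z hz
    rw [Set.mem_singleton_iff] at hz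
    subst hz
    exact (hyX x hx).symm
  have hXeq : X = A ⊓ centralizer ({y} : Set G) := by
    have h1 : Nat.card ↥(A ⊓ centralizer ({y} : Set G)) ∣ p ^ 2 :=
      hAc ▸ Subgroup.card_dvd_of_le inf_le_left
    obtain ⟨i, hi2, hi⟩ := (Nat.dvd_prime_pow hpp).mp h1
    have hi2' : i ≠ 2 := by
      intro h2
      rw [h2] at hi
      have h3 : A ⊓ centralizer ({y} : Set G) = A :=
        Subgroup.eq_of_le_of_card_ge inf_le_left (by rw [hi, hAc])
      apply hAY
      apply le_normalizer_of_forall_conj_mem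
      intro a ha z hz
      have h4 : a ∈ A ⊓ centralizer ({y} : Set G) := by rw [h3]; exact ha
      have h5 := (Subgroup.mem_inf.mp h4).2
      rw [mem_centralizer_iff] at h5
      have h6 : y * a = a * y := h5 y (Set.mem_singleton y)
      obtain ⟨k, rfl⟩ := mem_zpowers_iff.mp hz
      have hc : Commute a y := h6.symm
      have h7 : a * y ^ k * a⁻¹ = y ^ k := by
        rw [(hc.zpow_right k).eq]; group
      rw [h7]; exact zpow_mem (mem_zpowers y) k
    have hi0 : i ≠ 0 := by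
      intro h0
      rw [h0, pow_zero] at hi
      have h3 := Subgroup.card_eq_one.mp hi
      rw [h3] at hXle
      exact hX1 (le_bot_iff.mp hXle)
    have hi1 : i = 1 := by omega
    rw [hi1, pow_one] at hi
    exact Subgroup.eq_of_le_of_card_ge hXle (by rw [hi, hX])
  have hsp : s ≠ p := fun h => hpσ (h ▸ hsM)
  have hcop : s.Coprime p := (Nat.coprime_primes hs hpp).mpr hsp
  obtain ⟨A2, hA2A, hA2c, hyA2, hA2y, hlines⟩ := exists_eigen_line A hAcomm hAea.2 hAc y hyNA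
    (by rw [← hyord]; exact pow_orderOf_eq_one y) hcop X hXeq hX
  -- B&G 13.12: `C_{J_σ}(y) = 1`
  have hXCY : A ⊓ centralizer ((zpowers y : Subgroup G) : Set G) ≠ ⊥ := by
    intro h
    apply hX1
    rw [eq_bot_iff, ← h]
    intro x hx
    refine Subgroup.mem_inf.mpr ⟨hXA hx, ?_⟩
    rw [mem_centralizer_iff]
    intro z hz
    obtain ⟨k, rfl⟩ := mem_zpowers_iff.mp hz
    have hc : Commute y x := (hyX x hx).symm
    exact (hc.zpow_left k).eq
  have hfix : sigmaCore J ⊓ centralizer ((zpowers y : Subgroup G) : Set G) = ⊥ :=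
    hTau12 J hJ E hE p hτ2 A ⟨hAE, hAea, hAc⟩ s hsτ1 (zpowers y) hYE hYc hXCY
  -- the Frobenius group `A2 ⟨y⟩` acts on `J_σ`: `A2` centralizes `J_σ`
  have hA2p : IsPGroup p A2 := IsPGroup.of_card (n := 1) (by rw [hA2c, pow_one])
  have hYA2 : zpowers y ≤ normalizer (A2 : Set G) := (zpowers_le).mpr hyA2
  have hUn : ∀ e ∈ zpowers y, ∀ u ∈ A2, e * u * e⁻¹ ∈ A2 :=
    fun e he u hu => (mem_normalizer_iff.mp (hYA2 he) u).mp hu
  have hfpf : ∀ e ∈ zpowers y, e ≠ 1 → ∀ u ∈ A2, e * u = u * e → u = 1 := by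
    intro e he he1 u hu hcomm
    have h1 : zpowers e = zpowers y := by
      apply Subgroup.eq_of_le_of_card_ge ((zpowers_le).mpr he)
      rw [hYc]
      have h2 : Nat.card ↥(zpowers e) ∣ s := hYc ▸ Subgroup.card_dvd_of_le ((zpowers_le).mpr he)
      rcases (Nat.dvd_prime hs).mp h2 with h3 | h3
      · exfalso
        apply he1
        rw [Nat.card_zpowers, orderOf_eq_one_iff] at h3
        exact h3
      · rw [h3]
    have hy2 : y ∈ zpowers e := h1 ▸ mem_zpowers y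
    obtain ⟨k, hk⟩ := mem_zpowers_iff.mp hy2
    have hc : Commute e u := hcomm
    have h4 : y * u = u * y := by rw [← hk]; exact (hc.zpow_left k).eq
    have h5 : u ∈ A2 ⊓ centralizer ({y} : Set G) := by
      refine Subgroup.mem_inf.mpr ⟨hu, ?_⟩
      rw [mem_centralizer_iff]
      intro z hz
      rw [Set.mem_singleton_iff] at hz
      subst hz
      exact h4
    rw [hA2y, Subgroup.mem_bot] at h5
    exact h5
  have hJσtop : sigmaCore J ≠ ⊤ :=
    fun h => hJ.1 (top_le_iff.mp (h ▸ Cfsg.Agent.Lib.Helper67.BG.sigmaCore_le J))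
  have hA2J : A2 ≤ J := hA2A.trans hAJ
  have hYJ : zpowers y ≤ J := hYE.trans hE.1
  have hGH : A2 ⊔ zpowers y ≤ normalizer (sigmaCore J : Set G) :=
    sup_le (hA2J.trans (Cfsg.Agent.Lib.Helper67.BG.sigmaCore_normalizer J))
      (hYJ.trans (Cfsg.Agent.Lib.Helper67.BG.sigmaCore_normalizer J))
  have hcard2 : Nat.card ↥(zpowers y ⊔ A2 : Subgroup G) ∣ s * p := by
    have h1 := Cfsg.Agent.Lib.Helper27.BG.card_sup_dvd_mul hYA2
    rwa [hYc, hA2c] at h1
  have hcopσ : (Nat.card ↥(sigmaCore J)).Coprime (Nat.card ↥(A2 ⊔ zpowers y : Subgroup G)) := by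
    rw [sup_comm]
    apply Nat.Coprime.coprime_dvd_right hcard2
    apply Nat.Coprime.mul_right
    · rw [Nat.coprime_comm, Nat.Prime.coprime_iff_not_dvd hs]
      intro h
      exact hsJ (Cfsg.Agent.Lib.Helper67.BG.sigmaCore_isPi J s hs h)
    · rw [Nat.coprime_comm, Nat.Prime.coprime_iff_not_dvd hpp]
      intro h
      exact hpJ (Cfsg.Agent.Lib.Helper67.BG.sigmaCore_isPi J p hpp h)
  have hform := Cfsg.Agent.Lib.Helper97.FrobFormula.frob_formula A2 (zpowers y) (sigmaCore J)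
    hUn hfpf hA2p.isNilpotent hGH (isSolvable_of_ne_top hG hJσtop) hcopσ
  have hb1 : sigmaCore J ⊓ centralizer ((A2 ⊔ zpowers y : Subgroup G) : Set G) = ⊥ := by
    rw [eq_bot_iff, ← hfix]
    exact inf_le_inf_left _ (centralizer_anti le_sup_right)
  rw [hb1, hfix, Subgroup.card_bot, one_pow, one_mul, one_mul] at hform
  have hσA2 : sigmaCore J ≤ centralizer (A2 : Set G) := by
    have h1 : sigmaCore J ⊓ centralizer (A2 : Set G) = sigmaCore J :=
      Subgroup.eq_of_le_of_card_ge inf_le_left (by rw [← hform])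
    rw [← h1]; exact inf_le_right
  -- `J = N(A2)`
  have hσne : sigmaCore J ≠ ⊥ := Cfsg.Agent.Lib.Helper47.BG.sigmaCore_ne_bot hG h1405 J hJ
  have hA21 : A2 ≠ ⊥ := by
    intro h
    rw [h, Subgroup.card_bot] at hA2c
    exact hpp.one_lt.ne hA2c
  have hA2eq : A ⊓ centralizer (sigmaCore J : Set G) = A2 := by
    have hle : A2 ≤ A ⊓ centralizer (sigmaCore J : Set G) :=
      le_inf hA2A (Subgroup.le_centralizer_iff.mp hσA2)
    have h1 : Nat.card ↥(A ⊓ centralizer (sigmaCore J : Set G)) ∣ p ^ 2 :=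
      hAc ▸ Subgroup.card_dvd_of_le inf_le_left
    obtain ⟨i, hi2, hi⟩ := (Nat.dvd_prime_pow hpp).mp h1
    have hi2' : i ≠ 2 := by
      intro h2
      rw [h2] at hi
      have h3 : A ⊓ centralizer (sigmaCore J : Set G) = A :=
        Subgroup.eq_of_le_of_card_ge inf_le_left (by rw [hi, hAc])
      have h4 : A ≤ centralizer (sigmaCore J : Set G) := h3 ▸ inf_le_right
      have h5 : sigmaCore J ≤ centralizer (A : Set G) := Subgroup.le_centralizer_iff.mp h4
      apply hσne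
      rw [eq_bot_iff, ← hCJA]
      exact le_inf le_rfl h5
    have hi0 : i ≠ 0 := by
      intro h0
      rw [h0, pow_zero] at hi
      have h3 := Subgroup.card_eq_one.mp hi
      rw [h3] at hle
      exact hA21 (le_bot_iff.mp hle)
    have hi1 : i = 1 := by omega
    rw [hi1, pow_one] at hi
    exact (Subgroup.eq_of_le_of_card_ge hle (by rw [hi, hA2c])).symm
  have hEA2 : E ≤ normalizer (A2 : Set G) := by
    rw [← hA2eq]
    apply le_normalizer_inf_of_le hEA
    exact (hE.1.trans (Cfsg.Agent.Lib.Helper67.BG.sigmaCore_normalizer J)).trans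
      (normalizer_le_normalizer_centralizer (sigmaCore J))
  have hJA2 : J ≤ normalizer (A2 : Set G) := by
    intro m hm
    obtain ⟨a, ha, b, hb, rfl⟩ := hE.2.2.2 m hm
    exact mul_mem (hEA2 ha) (centralizer_le_normalizer' A2 (hσA2 hb))
  have hA2top : A2 ≠ ⊤ := fun h => hJ.1 (top_le_iff.mp (h ▸ hA2J))
  have hNA2 : normalizer (A2 : Set G) = J := by
    by_contra hne
    have hlt : J < normalizer (A2 : Set G) := lt_of_le_of_ne hJA2 (Ne.symm hne)
    exact normalizer_ne_top hG hA21 hA2top (hJ.2 _ hlt)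
  -- (GL): `N(A) ≤ J`, against S1418
  have hA1 : A ≠ ⊥ := fun h => hX1 (le_bot_iff.mp (h ▸ hXA))
  have hAtop : A ≠ ⊤ := fun h => hJ.1 (top_le_iff.mp (h ▸ hAJ))
  have hNAtop := normalizer_ne_top hG hA1 hAtop
  have hp2 : p ≠ 2 := by
    intro h
    have hodd := odd_card_subgroup hG X
    rw [hX, h] at hodd
    exact (by decide : ¬ Odd 2) hodd
  rcases gl_lemma hp2 A hAc (isSolvable_of_ne_top hG hNAtop) (odd_card_subgroup hG _) y hyNA
    X A2 hXeq hlines with h | h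
  · exact hNA (h.trans hNX)
  · exact hNA (h.trans hNA2.le)

end Cfsg.Agent.Lib.Helper35.BG30
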