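import Mathlib
import Cfsg.Agent.Lib.Helper35.BG30.OpenD
import Cfsg.Agent.Lib.Helper25.BG.S1430Defs

/-!
# S1430 clause (3c) in the shape of helper25's assembly: `HypOpenD G` from the σ-partition and
`Hyp1312 G` (B&G 13.12)
-/

set_option autoImplicit false

namespace Cfsg.Agent.Lib.Helper35.BG30

open Cfsg

universe u

theorem hypOpenD {G : Type u} [Group G] [Finite G] (hG : IsMinSimpleOddOrder G)
    (h1350 : type_of% (@Cfsg.CfsgFrozen.S1350 G _ _ hG))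
    (h1405 : type_of% (@Cfsg.CfsgFrozen.S1405 G _ _ hG))
    (h1409 : type_of% (@Cfsg.CfsgFrozen.S1409 G _ _ hG))
    (h1415 : type_of% (@Cfsg.CfsgFrozen.S1415 G _ _ hG))
    (h1417 : type_of% (@Cfsg.CfsgFrozen.S1417 G _ _ hG))
    (h1418 : type_of% (@Cfsg.CfsgFrozen.S1418 G _ _ hG))
    (h1420 : type_of% (@Cfsg.CfsgFrozen.S1420 G _ _ hG))
    (h1424 : type_of% (@Cfsg.CfsgFrozen.S1424 G _ _ hG))
    (h1425 : type_of% (@Cfsg.CfsgFrozen.S1425 G _ _ hG))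
    (hSigma : ∀ M N : Subgroup G, IsCoatom M → IsCoatom N → (sigma M ∩ sigma N).Nonempty →
      ∃ g : G, N = M.map (MulAut.conj g).toMonoidHom)
    (h12 : Cfsg.Agent.Lib.Helper25.BG30.Hyp1312 G) :
    Cfsg.Agent.Lib.Helper25.BG30.HypOpenD G := by
  intro M hM p hp hpσ hrank X hXM hX hD J hJ hNX
  have : Fact p.Prime := ⟨hp⟩
  exact s1430_3c hG h1350 h1405 h1409 h1415 h1417 h1418 h1420 h1424 h1425 hSigma
    (fun M hM E hE q _ hq A hA p hp P hPE hP hne =>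
      h12 M hM E hE q hq A hA.1 hA.2.1 hA.2.2 p hp P hPE hP hne)
    M hM p hpσ hrank X hXM hX hD J hJ hNX

end Cfsg.Agent.Lib.Helper35.BG30
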